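/-
Coset enumeration certificate: the assembled result.
-/
import Cfsg.Agent.Lib.Spor.TC.Steps
import Cfsg.Agent.Lib.Spor.Fi23.Rels
import Cfsg.Agent.Lib.Spor.Fi23.CO.Part0
import Cfsg.Agent.Lib.Spor.Fi23.CO.Part1
import Cfsg.Agent.Lib.Spor.Fi23.CO.Part2
import Cfsg.Agent.Lib.Spor.Fi23.CO.Part3
import Cfsg.Agent.Lib.Spor.Fi23.CO.Part4

namespace CfsgLib.Spor.Fi23.CO

open CfsgLib.Spor.TC

theorem steps_ok : cert.StepsOK 0 30162 :=
  (((((((((steps0.append _ steps2869).append _ steps5822).append _ steps8822).append _ steps11873).append _ steps14913).append _ steps18020).append _ steps21152).append _ steps24272).append _ steps27664)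

theorem rows_ok : cert.RowsOK 30162 3159 0 3159 :=
  ((rows0.append _ rows1250).append _ rows2500)

theorem row_zero : cert.rowNode 0 = 0 := by decide +kernel

/-- The certificate, for the relators as powers of words. -/
noncomputable def cosetCert : CosetCert 8 relsO [0, 1, 2, 3, 4, 5, 6] 3159 :=
  ⟨cert, 30162, steps_ok, rows_ok, row_zero, by decide, rfl, by decide +kernel, by decide +kernel⟩

end CfsgLib.Spor.Fi23.CO
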